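import Cfsg.Agent.Invol.Index

/-!
Counting arguments of Brauer-Fowler type.
-/

set_option autoImplicit false

namespace Cfsg.Agent.Invol

open Subgroup

universe u

variable {G : Type u} [Group G] [Finite G]

/-- Number of involutions. -/
noncomputable def invCount (G : Type u) [Group G] : ℕ := Nat.card {t : G // orderOf t = 2}

theorem two_le_card_centralizer {t : G} (ht : orderOf t = 2) :
    2 ≤ Nat.card (centralizer ({t} : Set G)) := by
  have h := Subgroup.orderOf_dvd_natCard _ (mem_centralizer_singleton_iff.mpr rfl :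
    t ∈ centralizer ({t} : Set G))
  rw [ht] at h
  exact Nat.le_of_dvd Nat.card_pos h

theorem card_le_invCount_mul {t : G} (ht : orderOf t = 2) :
    Nat.card G ≤ invCount G * Nat.card (centralizer ({t} : Set G)) := by
  rw [← card_isConj_mul t]
  refine Nat.mul_le_mul_right _ (Nat.card_le_card_of_injective (fun g => ⟨g.1, ?_⟩)
    fun a b hab => Subtype.ext (congrArg Subtype.val hab :))
  obtain ⟨c, hc⟩ := isConj_iff.mp g.2
  rw [← hc, orderOf_conj', ht]

theorem pair_ineq (A B K : ℤ) (hA : ∀ t : G, orderOf t = 2 → K * pairCount t ≤ A)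
    (hB : ∀ x : G, x ^ 2 ≠ 1 → K * pairCount x ≤ B) :
    K * ((invCount G : ℤ) * invCount G) ≤
      K * invCount G + invCount G * A + ((Nat.card G : ℤ) - 1 - invCount G) * B := by
  classical
  haveI : Fintype G := Fintype.ofFinite G
  set I : Finset G := Finset.univ.filter fun t : G => orderOf t = 2
  have hI : I.card = invCount G := by
    rw [invCount, Nat.card_eq_fintype_card, Fintype.card_subtype]
  have h1 : (1 : G) ∉ I := by simp [I]
  set R : Finset G := (insert 1 I)ᶜ
  have hR : (R.card : ℤ) = (Nat.card G : ℤ) - 1 - invCount G := by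
    have h := Finset.card_add_card_compl (insert 1 I)
    rw [Finset.card_insert_of_notMem h1, hI, ← Nat.card_eq_fintype_card] at h
    simp only [R]
    omega
  have hs := sum_pairCount (G := G)
  rw [← Finset.sum_add_sum_compl (insert 1 I), Finset.sum_insert h1, pairCount_one] at hs
  unfold invCount at *
  have hs' : (invCount G : ℤ) + ∑ x ∈ I, (pairCount x : ℤ) + ∑ x ∈ R, (pairCount x : ℤ) =
      (invCount G : ℤ) * invCount G := by
    unfold invCount
    exact_mod_cast hs
  unfold invCount at hs'
  rw [← hs', mul_add, mul_add, ← hR, ← hI, Finset.mul_sum, Finset.mul_sum]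
  refine add_le_add (add_le_add le_rfl ?_) ?_
  · refine (Finset.sum_le_sum fun t ht => hA t (by simpa [I] using ht)).trans ?_
    simp
  · refine (Finset.sum_le_sum fun x hx => hB x ?_).trans ?_
    · simp only [R, I, Finset.mem_compl, Finset.mem_insert, Finset.mem_filter, Finset.mem_univ,
        true_and, not_or] at hx
      exact fun h => hx.2 (orderOf_eq_prime h hx.1)
    · simp

theorem half_works (hgt : 2 < Nat.card G) {H : Subgroup G} (hH : H.index = 2) :
    H ≠ ⊤ ∧ Nat.card G < Nat.card H ^ 3 := by
  refine ⟨fun h => by rw [h, index_top] at hH; omega, ?_⟩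
  have h := H.card_mul_index
  rw [hH] at h
  rw [← h] at hgt ⊢
  have : 2 ≤ Nat.card H := by omega
  nlinarith [Nat.mul_le_mul this this]

theorem ne_top_of_card_lt {H : Subgroup G} (h : Nat.card H < Nat.card G) : H ≠ ⊤ :=
  fun e => by rw [e, card_top] at h; exact lt_irrefl _ h

theorem index_two_of_extCentralizer {x : G} (hx : x ^ 2 ≠ 1) (hreal : IsConj x x⁻¹)
    (h : extCentralizer x = ⊤) : (centralizer ({x} : Set G)).index = 2 := by
  have h2 := card_extCentralizer x hx hreal
  rw [h, card_top] at h2
  have h3 := (centralizer ({x} : Set G)).card_mul_index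
  rw [h2, mul_comm 2] at h3
  exact Nat.eq_of_mul_eq_mul_left Nat.card_pos h3

theorem centralizer_ne_top_of_noncentral {t : G} (ht : t ∉ center G) :
    centralizer ({t} : Set G) ≠ ⊤ := fun h => ht (mem_center_iff.mpr fun g =>
  mem_centralizer_singleton_iff.mp (h ▸ mem_top g))

theorem brauer_fowler_noncentral (heven : Even (Nat.card G)) (hgt : 2 < Nat.card G)
    (hz : ∀ z : G, orderOf z = 2 → z ∉ center G) :
    ∃ H : Subgroup G, H ≠ ⊤ ∧ Nat.card G < Nat.card H ^ 3 := by
  classical
  haveI : Fintype G := Fintype.ofFinite G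
  obtain ⟨t₀, ht₀⟩ := exists_prime_orderOf_dvd_card' 2 (even_iff_two_dvd.mp heven)
  obtain ⟨t, ht, hmax⟩ := Finset.exists_max_image
    (Finset.univ.filter fun t : G => orderOf t = 2)
    (fun t => Nat.card (centralizer ({t} : Set G))) ⟨t₀, by simp [ht₀]⟩
  simp only [Finset.mem_filter, Finset.mem_univ, true_and] at ht hmax
  by_contra hcon
  push Not at hcon
  set c := Nat.card (centralizer ({t} : Set G)) with hc
  set n := Nat.card G with hn
  have hc3 : c ^ 3 ≤ n := hcon _ (centralizer_ne_top_of_noncentral (hz t ht))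
  have hA : ∀ s : G, orderOf s = 2 →
      (2 * (c : ℤ) ^ 2) * pairCount s ≤ 2 * (c : ℤ) ^ 2 * ((c : ℤ) - 2) := by
    intro s hs
    refine mul_le_mul_of_nonneg_left ?_ (by positivity)
    have := pairCount_invol_add_two s hs
    have := hmax s hs
    omega
  have hB : ∀ x : G, x ^ 2 ≠ 1 → (2 * (c : ℤ) ^ 2) * pairCount x ≤ (n : ℤ) := by
    intro x hx
    by_cases hreal : IsConj x x⁻¹
    · have hd3 : (2 * Nat.card (centralizer ({x} : Set G))) ^ 3 ≤ n := by
        rw [← card_extCentralizer x hx hreal]
        refine hcon _ fun h => ?_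
        obtain ⟨h1, h2⟩ := half_works hgt (index_two_of_extCentralizer hx hreal h)
        exact absurd (hcon _ h1) (not_le.mpr h2)
      have h4 : 2 * c ^ 2 * Nat.card (centralizer ({x} : Set G)) ≤ n := by
        refine (Nat.pow_le_pow_iff_left three_ne_zero).mp ?_
        calc (2 * c ^ 2 * Nat.card (centralizer ({x} : Set G))) ^ 3
            = (2 * Nat.card (centralizer ({x} : Set G))) ^ 3 * (c ^ 3) ^ 2 := by ring
          _ ≤ n * n ^ 2 := Nat.mul_le_mul hd3 (Nat.pow_le_pow_left hc3 2)
          _ = n ^ 3 := by ring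
      have h5 := pairCount_le x
      have h6 : 2 * c ^ 2 * pairCount x ≤ n := (Nat.mul_le_mul_left _ h5).trans h4
      exact_mod_cast h6
    · rw [pairCount_eq_zero x hreal]
      simp
  have key := pair_ineq _ _ _ hA hB
  have hIc : (n : ℤ) ≤ (invCount G : ℤ) * c := by exact_mod_cast card_le_invCount_mul ht
  have hc2 : (2 : ℤ) ≤ c := by exact_mod_cast two_le_card_centralizer ht
  have hc3' : (c : ℤ) ^ 3 ≤ n := by exact_mod_cast hc3
  have hn0 : (0 : ℤ) < n := by exact_mod_cast Nat.card_pos
  have hi0 : (0 : ℤ) ≤ invCount G := by positivity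
  generalize (invCount G : ℤ) = i at *
  generalize (n : ℤ) = N at *
  generalize (c : ℤ) = C at *
  have e1 : 2 * (i * C) * (i * C) ≤ 2 * (C ^ 2 - C) * (i * C) + N * N := by nlinarith
  have e2 : i * C < 2 * (C ^ 2 - C) + 1 := by
    by_contra h
    push Not at h
    have h3 : N * N ≤ (i * C) * (i * C) := mul_le_mul hIc hIc hn0.le (by nlinarith)
    nlinarith
  nlinarith

theorem brauer_fowler_aux : ∀ n : ℕ, ∀ (G : Type u) [Group G] [Finite G], Nat.card G = n →
    Even n → 2 < n → ∃ H : Subgroup G, H ≠ ⊤ ∧ Nat.card G < Nat.card H ^ 3 := by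
  intro n
  induction n using Nat.strong_induction_on with
  | _ n ih =>
    intro G _ _ hG heven hgt
    subst hG
    by_cases hz : ∀ z : G, orderOf z = 2 → z ∉ center G
    · exact brauer_fowler_noncentral heven hgt hz
    · push Not at hz
      obtain ⟨z, hz2, hzc⟩ := hz
      haveI : (zpowers z).Normal := ⟨fun a ha g => by
        rw [mem_center_iff.mp (zpowers_le.mpr hzc ha) g, mul_inv_cancel_right]
        exact ha⟩
      have hmul := (zpowers z).card_mul_index
      rw [Nat.card_zpowers, hz2, index_eq_card] at hmul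
      rcases Nat.even_or_odd (Nat.card (G ⧸ zpowers z)) with he | ho
      · by_cases h2 : 2 < Nat.card (G ⧸ zpowers z)
        · obtain ⟨H, hH, hlt⟩ := ih _ (by omega) (G ⧸ zpowers z) rfl he h2
          set K := H.comap (QuotientGroup.mk' (zpowers z)) with hK
          have hKi : K.index = H.index :=
            index_comap_of_surjective _ (QuotientGroup.mk'_surjective _)
          refine ⟨K, fun h => hH (index_eq_one.mp (hKi ▸ index_eq_one.mpr h)), ?_⟩
          have h1 := K.card_mul_index
          have h3 := H.card_mul_index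
          have h4 : Nat.card K = 2 * Nat.card H := by
            refine Nat.eq_of_mul_eq_mul_right (Nat.pos_of_ne_zero H.index_ne_zero_of_finite) ?_
            rw [mul_assoc, h3, hmul, ← h1, hKi]
          rw [h4, ← hmul, mul_pow]
          omega
        · obtain ⟨j, hj⟩ := he
          have hpos : 0 < Nat.card (G ⧸ zpowers z) := Nat.card_pos
          refine ⟨zpowers z, half_works hgt ?_⟩
          rw [index_eq_card]
          omega
      · obtain ⟨T⟩ : Nonempty (Sylow 2 G) := inferInstance
        have hTc : Nat.card (T : Subgroup G) = 2 := by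
          obtain ⟨k, hk⟩ := IsPGroup.iff_card.mp T.2
          have h1 : 2 ∣ Nat.card (T : Subgroup G) :=
            T.dvd_card_of_dvd_card (even_iff_two_dvd.mp heven)
          have h2 := card_subgroup_dvd_card (T : Subgroup G)
          rw [hk] at h1 h2 ⊢
          rcases k with _ | _ | k
          · norm_num at h1
          · rfl
          · exfalso
            rw [← hmul, pow_succ'] at h2
            have h3 := Nat.dvd_of_mul_dvd_mul_left two_pos h2
            rw [pow_succ'] at h3
            exact Nat.not_even_iff_odd.mpr ho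
              (even_iff_two_dvd.mpr ((dvd_mul_right 2 _).trans h3))
        haveI : Fact (Nat.Prime 2) := ⟨Nat.prime_two⟩
        obtain ⟨H, hH⟩ := exists_index_two_of_cyclic heven T (isCyclic_of_prime_card hTc)
        exact ⟨H, half_works hgt hH⟩

theorem exists_small_index (t : G) (ht : orderOf t = 2) (hz : center G = ⊥) :
    ∃ x : G, x ≠ 1 ∧ centralizer ({x} : Set G) ≠ ⊤ ∧
      (centralizer ({x} : Set G)).index ≤ 2 * Nat.card (centralizer ({t} : Set G)) ^ 2 := by
  have hne : ∀ x : G, x ≠ 1 → centralizer ({x} : Set G) ≠ ⊤ := fun x hx =>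
    centralizer_ne_top_of_noncentral (by rwa [hz, mem_bot])
  by_contra hcon
  push Not at hcon
  set c := Nat.card (centralizer ({t} : Set G)) with hc
  have hd : ∀ x : G, x ≠ 1 →
      2 * c ^ 2 * Nat.card (centralizer ({x} : Set G)) ≤ Nat.card G := by
    intro x hx
    rw [← (centralizer ({x} : Set G)).card_mul_index, mul_comm]
    exact Nat.mul_le_mul_left _ (hcon x hx (hne x hx)).le
  have hA : ∀ x : G, x ≠ 1 → (2 * (c : ℤ) ^ 2) * pairCount x ≤ (Nat.card G : ℤ) := by
    intro x hx
    exact_mod_cast (Nat.mul_le_mul_left (2 * c ^ 2) (pairCount_le x)).trans (hd x hx)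
  have key := pair_ineq _ _ _ (fun s hs => hA s (ne_one hs))
    (fun x hx => hA x (fun h => hx (by rw [h, one_pow])))
  have hIc : (Nat.card G : ℤ) ≤ (invCount G : ℤ) * c := by exact_mod_cast card_le_invCount_mul ht
  have hc2 : (2 : ℤ) ≤ c := by exact_mod_cast two_le_card_centralizer ht
  have ht3 : (2 * (c : ℤ) ^ 2 * c) ≤ Nat.card G := by exact_mod_cast hd t (ne_one ht)
  have hn0 : (0 : ℤ) < Nat.card G := by exact_mod_cast Nat.card_pos
  generalize (invCount G : ℤ) = i at *
  generalize (Nat.card G : ℤ) = N at *
  generalize (c : ℤ) = C at *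
  have e1 : 2 * (i * C) * (i * C) ≤ 2 * C * (i * C) + N * N := by nlinarith
  have h3 : N * N ≤ (i * C) * (i * C) := mul_le_mul hIc hIc hn0.le (by linarith)
  have e2 : i * C ≤ 2 * C := by nlinarith
  nlinarith

theorem brauer_fowler_index (heven : Even (Nat.card G)) (hZ : Odd (Nat.card (center G))) :
    ∃ H : Subgroup G, H ≠ ⊤ ∧ (H.index = 2 ∨
      2 * H.index * invCount G ^ 2 < Nat.card G * (Nat.card G + invCount G)) := by
  obtain ⟨t₀, ht₀⟩ := exists_prime_orderOf_dvd_card' 2 (even_iff_two_dvd.mp heven)
  have hi : 0 < invCount G :=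
    haveI : Nonempty {t : G // orderOf t = 2} := ⟨⟨t₀, ht₀⟩⟩
    Nat.card_pos
  by_contra hcon
  push Not at hcon
  have hA : ∀ s : G, orderOf s = 2 → ((Nat.card G : ℤ) + invCount G) * pairCount s ≤
      2 * (invCount G : ℤ) ^ 2 - 2 * ((Nat.card G : ℤ) + invCount G) := by
    intro s hs
    have hnc : s ∉ center G := fun h => by
      have h2 := Subgroup.orderOf_dvd_natCard _ h
      rw [hs] at h2
      exact Nat.not_even_iff_odd.mpr hZ (even_iff_two_dvd.mpr h2)
    obtain ⟨-, h1⟩ := hcon _ (centralizer_ne_top_of_noncentral hnc)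
    rw [← (centralizer ({s} : Set G)).card_mul_index] at h1
    set c := Nat.card (centralizer ({s} : Set G)) with hc
    have hidx : 0 < (centralizer ({s} : Set G)).index :=
      Nat.pos_of_ne_zero index_ne_zero_of_finite
    rw [(centralizer ({s} : Set G)).card_mul_index] at h1
    have h2 : c * (Nat.card G + invCount G) ≤ 2 * invCount G ^ 2 := by
      refine Nat.le_of_mul_le_mul_left ?_ hidx
      calc (centralizer ({s} : Set G)).index * (c * (Nat.card G + invCount G))
          = Nat.card G * (Nat.card G + invCount G) := by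
            rw [← mul_assoc, mul_comm _ c, card_mul_index]
        _ ≤ 2 * (centralizer ({s} : Set G)).index * invCount G ^ 2 := h1
        _ = _ := by ring
    have h3 := pairCount_invol_add_two s hs
    zify at h2 h3
    nlinarith
  have hB : ∀ x : G, x ^ 2 ≠ 1 →
      ((Nat.card G : ℤ) + invCount G) * pairCount x ≤ (invCount G : ℤ) ^ 2 := by
    intro x hx
    by_cases hreal : IsConj x x⁻¹
    · have htop : extCentralizer x ≠ ⊤ := fun h => by
        have h2 := index_two_of_extCentralizer hx hreal h
        have h3 : centralizer ({x} : Set G) ≠ ⊤ := fun e => by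
          rw [e, index_top] at h2; omega
        exact (hcon _ h3).1 h2
      obtain ⟨-, h1⟩ := hcon _ htop
      have hm := (extCentralizer x).card_mul_index
      rw [card_extCentralizer x hx hreal] at hm
      set d := Nat.card (centralizer ({x} : Set G)) with hd
      have hidx : 0 < (extCentralizer x).index := Nat.pos_of_ne_zero index_ne_zero_of_finite
      have h2 : d * (Nat.card G + invCount G) ≤ invCount G ^ 2 := by
        refine Nat.le_of_mul_le_mul_left ?_ (Nat.mul_pos two_pos hidx)
        calc 2 * (extCentralizer x).index * (d * (Nat.card G + invCount G))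
            = (2 * d * (extCentralizer x).index) * (Nat.card G + invCount G) := by ring
          _ = Nat.card G * (Nat.card G + invCount G) := by rw [hm]
          _ ≤ _ := h1
      have h3 := pairCount_le x
      zify at h2 h3
      nlinarith
    · rw [pairCount_eq_zero x hreal]
      simp
  have key := pair_ineq _ _ _ hA hB
  have hi' : (0 : ℤ) < invCount G := by exact_mod_cast hi
  have hn0 : (0 : ℤ) < Nat.card G := by exact_mod_cast Nat.card_pos
  nlinarith

theorem card_lt_cube {s t : G} (hs : orderOf s = 2) (ht : orderOf t = 2) (hnc : ¬ IsConj s t)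
    (hmax : ∀ u : G, orderOf u = 2 →
      Nat.card (centralizer ({u} : Set G)) ≤ Nat.card (centralizer ({t} : Set G))) :
    Nat.card G < Nat.card (centralizer ({t} : Set G)) ^ 3 := by
  classical
  haveI : Fintype G := Fintype.ofFinite G
  set c := Nat.card (centralizer ({t} : Set G)) with hc
  set W : Finset G := Finset.univ.filter fun w : G => orderOf w = 2 ∧ Commute w t
  have hW : W.card + 1 ≤ c := by
    have h1 := pairCount_invol_add_two t ht
    have h2 := pairCount_invol_add_one t ht
    rw [Nat.card_eq_fintype_card (α := {w : G // orderOf w = 2 ∧ Commute w t}),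
      Fintype.card_subtype] at h2
    change pairCount t + 1 = W.card at h2
    omega
  have hsub : (Finset.univ.filter fun g : G => IsConj s g) ⊆
      W.biUnion fun w => Finset.univ.filter fun g : G => g ∈ centralizer ({w} : Set G) := by
    intro g hg
    simp only [Finset.mem_filter, Finset.mem_univ, true_and] at hg
    have hg2 : orderOf g = 2 := by
      obtain ⟨a, rfl⟩ := isConj_iff.mp hg
      rw [orderOf_conj', hs]
    have he : Even (orderOf (g * t)) := by
      rw [← Nat.not_odd_iff_even]
      exact fun ho => hnc (hg.trans (isConj_of_odd hg2 ht ho))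
    obtain ⟨hw, hwg, hwt⟩ := half_pow hg2 ht he
    simp only [Finset.mem_biUnion, Finset.mem_filter, Finset.mem_univ, true_and, W]
    exact ⟨_, ⟨hw, hwt⟩, mem_centralizer_singleton_iff.mpr hwg.symm.eq⟩
  have h1 := Finset.card_le_card hsub
  have h2 : (W.biUnion fun w =>
      Finset.univ.filter fun g : G => g ∈ centralizer ({w} : Set G)).card ≤ W.card * c := by
    refine Finset.card_biUnion_le_card_mul _ _ _ fun w hw => ?_
    simp only [Finset.mem_filter, Finset.mem_univ, true_and, W] at hw
    rw [← Fintype.card_subtype, ← Nat.card_eq_fintype_card]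
    exact hmax w hw.1
  rw [← card_isConj_mul s, Nat.card_eq_fintype_card, Fintype.card_subtype]
  have h3 := hmax s hs
  have hcpos : 0 < c := Nat.card_pos
  calc _ ≤ W.card * c * c := Nat.mul_le_mul (h1.trans h2) h3
    _ < c * c * c := by
      have : W.card < c := by omega
      exact Nat.mul_lt_mul_of_pos_right (Nat.mul_lt_mul_of_pos_right this hcpos) hcpos
    _ = c ^ 3 := by ring

end Cfsg.Agent.Invol
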